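import Mathlib
import Cfsg.Agent.Lib.Helper19.SPU.Defs
import Cfsg.Agent.Lib.Helper40.Fitting

/-!
# Team project SPU (S2316), package [DEC1]

Orthogonal Fitting decomposition of an isometry `g` of a symplectic form with respect to `g - 1`.
-/

set_option autoImplicit false

namespace Cfsg.Agent.Lib.Helper76.SPU

open Matrix Cfsg.Agent.Lib.Helper19.SPU

universe u

section aux

variable {F : Type u} [Field F]

/-- an alternating matrix gives a quadratic form that vanishes identically. -/
theorem alt_sum_zero {n : Type} [DecidableEq n] (K : Matrix n n F) (hT : Kᵀ = -K)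
    (hd : ∀ i, K i i = 0) (x : n → F) (s : Finset n) :
    ∑ a ∈ s, ∑ b ∈ s, x a * K a b * x b = 0 := by
  induction s using Finset.induction_on with
  | empty => simp
  | insert c s hc ih =>
    rw [Finset.sum_insert hc, Finset.sum_insert hc]
    have h1 : ∑ a ∈ s, ∑ b ∈ insert c s, x a * K a b * x b =
        ∑ a ∈ s, x a * K a c * x c + ∑ a ∈ s, ∑ b ∈ s, x a * K a b * x b := by
      rw [← Finset.sum_add_distrib]
      apply Finset.sum_congr rfl
      intro a _
      rw [Finset.sum_insert hc]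
    rw [h1, ih, hd c, add_zero, mul_zero, zero_mul, zero_add, ← Finset.sum_add_distrib]
    apply Finset.sum_eq_zero
    intro a _
    have h2 : K a c = -K c a := by
      have := congrFun (congrFun hT c) a
      rw [Matrix.transpose_apply, Matrix.neg_apply] at this
      exact this
    rw [h2]
    ring

/-- congruence preserves "alternating". -/
theorem congr_diag_zero {n m : Type} [Fintype n] [DecidableEq n] [Fintype m]
    (K : Matrix n n F) (hT : Kᵀ = -K) (hd : ∀ i, K i i = 0) (P : Matrix n m F) (i : m) :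
    (Pᵀ * K * P) i i = 0 := by
  rw [Matrix.mul_apply]
  have h1 : ∀ b : n, (Pᵀ * K) i b * P b i = ∑ a, P a i * K a b * P b i := by
    intro b
    rw [Matrix.mul_apply, Finset.sum_mul]
    rfl
  rw [Finset.sum_congr rfl (fun b _ => h1 b), Finset.sum_comm]
  exact alt_sum_zero K hT hd (fun a => P a i) Finset.univ

theorem congr_transpose_neg {n m : Type} [Fintype n] [Fintype m]
    (K : Matrix n n F) (hT : Kᵀ = -K) (P : Matrix n m F) :
    (Pᵀ * K * P)ᵀ = -(Pᵀ * K * P) := by
  rw [Matrix.transpose_mul, Matrix.transpose_mul, Matrix.transpose_transpose, hT]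
  simp only [Matrix.mul_neg, Matrix.neg_mul, Matrix.mul_assoc]

/-- Sylvester-type vanishing: `Z * A = -(M * Z * (1 + A))`, `M` nilpotent, `A` invertible
gives `Z = 0`. -/
theorem sylv_zero {α β : Type} [Fintype α] [DecidableEq α] [Fintype β] [DecidableEq β]
    (M : Matrix α α F) (A : Matrix β β F) (Z : Matrix α β F) (hM : IsNilpotent M)
    (hA : IsUnit A) (hZA : Z * A = -(M * Z * (1 + A))) : Z = 0 := by
  have hind : ∀ j : ℕ, Z * A ^ j = (-M) ^ j * Z * (1 + A) ^ j := by
    intro j
    induction j with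
    | zero => simp
    | succ j ih =>
      have hcomm : (1 + A) ^ j * A = A * (1 + A) ^ j :=
        (((Commute.one_left A).add_left (Commute.refl A)).pow_left j).eq
      calc Z * A ^ (j + 1) = Z * A ^ j * A := by rw [pow_succ, Matrix.mul_assoc]
        _ = (-M) ^ j * Z * ((1 + A) ^ j * A) := by
            rw [ih]
            simp only [Matrix.mul_assoc]
        _ = (-M) ^ j * (Z * A) * (1 + A) ^ j := by
            rw [hcomm]
            simp only [Matrix.mul_assoc]
        _ = (-M) ^ j * (-M) * Z * ((1 + A) * (1 + A) ^ j) := by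
            rw [hZA]
            simp only [Matrix.mul_assoc, Matrix.neg_mul, Matrix.mul_neg]
        _ = (-M) ^ (j + 1) * Z * (1 + A) ^ (j + 1) := by rw [← pow_succ, ← pow_succ']
  have hM' : IsNilpotent (-M) := hM.neg
  have h0 : (-M) ^ Fintype.card α = 0 :=
    Cfsg.Agent.Lib.Helper40.isNilpotent_pow_card hM' (le_refl _)
  have h1 := hind (Fintype.card α)
  rw [h0, Matrix.zero_mul, Matrix.zero_mul] at h1
  have hu : IsUnit (A ^ Fintype.card α).det :=
    (Matrix.isUnit_iff_isUnit_det _).mp (hA.pow (Fintype.card α))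
  calc Z = Z * (A ^ Fintype.card α * (A ^ Fintype.card α)⁻¹) := by
        rw [Matrix.mul_nonsing_inv _ hu, Matrix.mul_one]
    _ = Z * A ^ Fintype.card α * (A ^ Fintype.card α)⁻¹ := by rw [Matrix.mul_assoc]
    _ = 0 := by rw [h1, Matrix.zero_mul]

end aux

/-- **[DEC1]** -/
theorem pkgDec1 : PkgDec1.{u} := by
  intro F _ α β _ _ _ _ K g hK hg hrank
  obtain ⟨hKT, hKd, hKu⟩ := hK
  obtain ⟨P, N, A, hN, hA, hP⟩ := Cfsg.Agent.Lib.Helper40.fitting_exists (g - 1) hrank
  -- `g * P = P * diag(1 + N, 1 + A)`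
  have hgP : g * P.val = P.val * Matrix.fromBlocks (1 + N) 0 0 (1 + A) := by
    have h1 : Matrix.fromBlocks (1 + N) 0 0 (1 + A) =
        (1 : Matrix (α ⊕ β) (α ⊕ β) F) + Matrix.fromBlocks N 0 0 A := by
      rw [← Matrix.fromBlocks_one, Matrix.fromBlocks_add]
      simp
    rw [h1, Matrix.mul_add, Matrix.mul_one, ← hP, Matrix.sub_mul, Matrix.one_mul]
    abel
  -- the transported form
  have hK' : (Matrix.fromBlocks (1 + N) 0 0 (1 + A))ᵀ * (P.valᵀ * K * P.val) *
      Matrix.fromBlocks (1 + N) 0 0 (1 + A) = P.valᵀ * K * P.val := by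
    calc (Matrix.fromBlocks (1 + N) 0 0 (1 + A))ᵀ * (P.valᵀ * K * P.val) *
          Matrix.fromBlocks (1 + N) 0 0 (1 + A)
        = (P.val * Matrix.fromBlocks (1 + N) 0 0 (1 + A))ᵀ * K *
            (P.val * Matrix.fromBlocks (1 + N) 0 0 (1 + A)) := by
          rw [Matrix.transpose_mul]
          simp only [Matrix.mul_assoc]
      _ = (g * P.val)ᵀ * K * (g * P.val) := by rw [hgP]
      _ = P.valᵀ * (gᵀ * K * g) * P.val := by
          rw [Matrix.transpose_mul]
          simp only [Matrix.mul_assoc]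
      _ = P.valᵀ * K * P.val := by rw [hg]
  have hT' := congr_transpose_neg K hKT P.val
  have hd' := congr_diag_zero K hKT hKd P.val
  have hu' : IsUnit (P.valᵀ * K * P.val) := by
    have hPt : IsUnit P.valᵀ := by
      rw [Matrix.isUnit_iff_isUnit_det, Matrix.det_transpose]
      exact (Matrix.isUnit_iff_isUnit_det _).mp P.isUnit
    exact (hPt.mul hKu).mul P.isUnit
  obtain ⟨K11, Z, W, K22, hblk⟩ : ∃ K11 Z W K22, P.valᵀ * K * P.val =
      Matrix.fromBlocks K11 Z W K22 :=
    ⟨_, _, _, _, (Matrix.fromBlocks_toBlocks _).symm⟩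
  rw [hblk] at hK' hT' hd' hu'
  rw [Matrix.fromBlocks_transpose, Matrix.fromBlocks_multiply, Matrix.fromBlocks_multiply,
    Matrix.fromBlocks_inj] at hK'
  simp only [Matrix.transpose_zero, Matrix.zero_mul, Matrix.mul_zero, add_zero, zero_add]
    at hK'
  obtain ⟨h11, h12, h21, h22⟩ := hK'
  rw [Matrix.fromBlocks_transpose, Matrix.fromBlocks_neg, Matrix.fromBlocks_inj] at hT'
  obtain ⟨t11, t12, t21, t22⟩ := hT'
  -- `Z = 0`
  have hZ : Z = 0 := by
    apply sylv_zero Nᵀ A Z _ hA
    · have e1 : (1 + N)ᵀ * Z * (1 + A) = Z + (Z * A + Nᵀ * Z * (1 + A)) := by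
        rw [Matrix.transpose_add, Matrix.transpose_one, Matrix.add_mul, Matrix.add_mul,
          Matrix.one_mul, Matrix.mul_add Z 1 A, Matrix.mul_one]
        abel
      rw [e1] at h12
      have e2 : Z * A + Nᵀ * Z * (1 + A) = 0 := by
        have e3 : Z + (Z * A + Nᵀ * Z * (1 + A)) = Z + 0 := by rw [h12, add_zero]
        exact add_left_cancel e3
      exact eq_neg_of_add_eq_zero_left e2
    · obtain ⟨k, hk⟩ := hN
      exact ⟨k, by rw [← Matrix.transpose_pow, hk, Matrix.transpose_zero]⟩
  have hW : W = 0 := by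
    have e1 : Wᵀ = 0 := by rw [t12, hZ, neg_zero]
    have e2 := congrArg Matrix.transpose e1
    rwa [Matrix.transpose_transpose, Matrix.transpose_zero] at e2
  subst hZ
  subst hW
  have hdet : IsUnit (K11.det * K22.det) := by
    have h1 := (Matrix.isUnit_iff_isUnit_det _).mp hu'
    rwa [Matrix.det_fromBlocks_zero₂₁] at h1
  refine ⟨P, K11, K22, 1 + N, 1 + A, ⟨t11, ?_, ?_⟩, ⟨t22, ?_, ?_⟩, hblk, hgP, h11, h22, ?_, ?_⟩
  · intro i
    have := hd' (Sum.inl i)
    rwa [Matrix.fromBlocks_apply₁₁] at this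
  · exact (Matrix.isUnit_iff_isUnit_det _).mpr (isUnit_of_mul_isUnit_left hdet)
  · intro i
    have := hd' (Sum.inr i)
    rwa [Matrix.fromBlocks_apply₂₂] at this
  · exact (Matrix.isUnit_iff_isUnit_det _).mpr (isUnit_of_mul_isUnit_right hdet)
  · rw [add_sub_cancel_left]
    exact hN
  · rw [add_sub_cancel_left]
    exact hA

end Cfsg.Agent.Lib.Helper76.SPU
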