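import Mathlib
import Cfsg.Agent.Lib.Helper19.SPU.Defs
import Cfsg.Agent.Lib.Helper40.Fitting
import Cfsg.Agent.Lib.Helper76.SPU.Dec1

/-!
# Team project SPU (S2316), package [DEC2]

Orthogonal Fitting decomposition of `X ∈ 𝒜(K)` with respect to `X² + X`.
-/

set_option autoImplicit false

namespace Cfsg.Agent.Lib.Helper76.SPU

open Matrix Cfsg.Agent.Lib.Helper19.SPU

universe u

section aux

variable {F : Type u} [Field F]

/-- Sylvester: `Z * A = M * Z`, `M` nilpotent, `A` invertible gives `Z = 0`. -/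
theorem sylv_zero' {α β : Type} [Fintype α] [DecidableEq α] [Fintype β] [DecidableEq β]
    (M : Matrix α α F) (A : Matrix β β F) (Z : Matrix α β F) (hM : IsNilpotent M)
    (hA : IsUnit A) (hZA : Z * A = M * Z) : Z = 0 := by
  have hind : ∀ j : ℕ, Z * A ^ j = M ^ j * Z := by
    intro j
    induction j with
    | zero => simp
    | succ j ih =>
      calc Z * A ^ (j + 1) = Z * A ^ j * A := by rw [pow_succ, Matrix.mul_assoc]
        _ = M ^ j * (Z * A) := by rw [ih, Matrix.mul_assoc]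
        _ = M ^ (j + 1) * Z := by rw [hZA, ← Matrix.mul_assoc, ← pow_succ]
  have h0 : M ^ Fintype.card α = 0 :=
    Cfsg.Agent.Lib.Helper40.isNilpotent_pow_card hM (le_refl _)
  have h1 := hind (Fintype.card α)
  rw [h0, Matrix.zero_mul] at h1
  have hu : IsUnit (A ^ Fintype.card α).det :=
    (Matrix.isUnit_iff_isUnit_det _).mp (hA.pow (Fintype.card α))
  calc Z = Z * (A ^ Fintype.card α * (A ^ Fintype.card α)⁻¹) := by
        rw [Matrix.mul_nonsing_inv _ hu, Matrix.mul_one]
    _ = Z * A ^ Fintype.card α * (A ^ Fintype.card α)⁻¹ := by rw [Matrix.mul_assoc]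
    _ = 0 := by rw [h1, Matrix.zero_mul]

theorem isNilpotent_transpose {α : Type} [Fintype α] [DecidableEq α] {N : Matrix α α F}
    (hN : IsNilpotent N) : IsNilpotent Nᵀ := by
  obtain ⟨k, hk⟩ := hN
  exact ⟨k, by rw [← Matrix.transpose_pow, hk, Matrix.transpose_zero]⟩

theorem isUnit_transpose' {α : Type} [Fintype α] [DecidableEq α] {A : Matrix α α F}
    (hA : IsUnit A) : IsUnit Aᵀ := by
  rw [Matrix.isUnit_iff_isUnit_det, Matrix.det_transpose]
  exact (Matrix.isUnit_iff_isUnit_det _).mp hA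

/-- for `X ∈ 𝒜(K)` the matrix `M = X² + X` is self-adjoint: `Mᵀ K = K M`. -/
theorem affA_selfadj {n : Type} [Fintype n] [DecidableEq n] (K X : Matrix n n F)
    (hX : AffA K X) : (X * X + X)ᵀ * K = K * (X * X + X) := by
  unfold AffA at hX
  rw [Matrix.transpose_add, Matrix.transpose_mul]
  linear_combination (norm := noncomm_ring) Xᵀ * hX - hX * X

end aux

/-- **[DEC2]** -/
theorem pkgDec2 : PkgDec2.{u} := by
  intro F _ α β _ _ _ _ K X hK hX hrank
  obtain ⟨hKT, hKd, hKu⟩ := hK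
  obtain ⟨P, N, A, hN, hA, hP⟩ := Cfsg.Agent.Lib.Helper40.fitting_exists (X * X + X) hrank
  have hPinv : (P⁻¹).val * P.val = 1 := by
    rw [← Units.val_mul, inv_mul_cancel, Units.val_one]
  have hPinv' : P.val * (P⁻¹).val = 1 := by
    rw [← Units.val_mul, mul_inv_cancel, Units.val_one]
  have hcancel : ∀ U V : Matrix (α ⊕ β) (α ⊕ β) F, P.val * U = P.val * V → U = V := by
    intro U V h
    have h1 := congrArg (fun M => (P⁻¹).val * M) h
    simp only [← Matrix.mul_assoc, hPinv, Matrix.one_mul] at h1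
    exact h1
  obtain ⟨X11, X12, X21, X22, hXblk⟩ : ∃ X11 X12 X21 X22, (P⁻¹).val * X * P.val =
      Matrix.fromBlocks X11 X12 X21 X22 :=
    ⟨_, _, _, _, (Matrix.fromBlocks_toBlocks _).symm⟩
  have hXP : X * P.val = P.val * Matrix.fromBlocks X11 X12 X21 X22 := by
    rw [← hXblk, ← Matrix.mul_assoc, ← Matrix.mul_assoc, hPinv', Matrix.one_mul]
  -- `X'` commutes with `diag(N, A)`
  have hcomm : Matrix.fromBlocks X11 X12 X21 X22 * Matrix.fromBlocks N 0 0 A =
      Matrix.fromBlocks N 0 0 A * Matrix.fromBlocks X11 X12 X21 X22 := by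
    apply hcancel
    calc P.val * (Matrix.fromBlocks X11 X12 X21 X22 * Matrix.fromBlocks N 0 0 A)
        = X * (P.val * Matrix.fromBlocks N 0 0 A) := by
          rw [← Matrix.mul_assoc, ← hXP, Matrix.mul_assoc]
      _ = X * (X * X + X) * P.val := by rw [← hP, Matrix.mul_assoc]
      _ = (X * X + X) * X * P.val := by
          congr 1
          noncomm_ring
      _ = (X * X + X) * P.val * Matrix.fromBlocks X11 X12 X21 X22 := by
          rw [Matrix.mul_assoc, hXP, Matrix.mul_assoc]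
      _ = P.val * (Matrix.fromBlocks N 0 0 A * Matrix.fromBlocks X11 X12 X21 X22) := by
          rw [hP, Matrix.mul_assoc]
  rw [Matrix.fromBlocks_multiply, Matrix.fromBlocks_multiply, Matrix.fromBlocks_inj] at hcomm
  simp only [Matrix.zero_mul, Matrix.mul_zero, add_zero, zero_add] at hcomm
  obtain ⟨_, c12, c21, _⟩ := hcomm
  have hX12 : X12 = 0 := sylv_zero' N A X12 hN hA c12
  have hX21 : X21 = 0 := by
    have e1 : X21ᵀ * Aᵀ = Nᵀ * X21ᵀ := by
      rw [← Matrix.transpose_mul, ← Matrix.transpose_mul, c21]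
    have e2 := sylv_zero' Nᵀ Aᵀ X21ᵀ (isNilpotent_transpose hN) (isUnit_transpose' hA) e1
    have e3 := congrArg Matrix.transpose e2
    rwa [Matrix.transpose_transpose, Matrix.transpose_zero] at e3
  subst hX12
  subst hX21
  -- `X'² + X' = diag(N, A)`
  have hMX : Matrix.fromBlocks X11 0 0 X22 * Matrix.fromBlocks X11 0 0 X22 +
      Matrix.fromBlocks X11 0 0 X22 = Matrix.fromBlocks N 0 0 A := by
    apply hcancel
    rw [Matrix.mul_add, ← Matrix.mul_assoc, ← hXP, Matrix.mul_assoc, ← hXP, ← Matrix.mul_assoc,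
      ← Matrix.add_mul, hP]
  rw [Matrix.fromBlocks_multiply, Matrix.fromBlocks_add, Matrix.fromBlocks_inj] at hMX
  simp only [Matrix.zero_mul, Matrix.mul_zero, add_zero, zero_add] at hMX
  obtain ⟨e11, _, _, e22⟩ := hMX
  -- the transported form
  have hT' := congr_transpose_neg K hKT P.val
  have hd' := congr_diag_zero K hKT hKd P.val
  have hu' : IsUnit (P.valᵀ * K * P.val) :=
    ((isUnit_transpose' P.isUnit).mul hKu).mul P.isUnit
  have hAff' : (Matrix.fromBlocks X11 0 0 X22)ᵀ * (P.valᵀ * K * P.val) +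
      (P.valᵀ * K * P.val) * Matrix.fromBlocks X11 0 0 X22 + P.valᵀ * K * P.val = 0 := by
    have e1 : (Matrix.fromBlocks X11 0 0 X22)ᵀ * (P.valᵀ * K * P.val) =
        P.valᵀ * (Xᵀ * K) * P.val := by
      rw [← Matrix.mul_assoc, ← Matrix.mul_assoc, ← Matrix.transpose_mul, ← hXP,
        Matrix.transpose_mul]
      simp only [Matrix.mul_assoc]
    have e2 : (P.valᵀ * K * P.val) * Matrix.fromBlocks X11 0 0 X22 =
        P.valᵀ * (K * X) * P.val := by
      rw [Matrix.mul_assoc, ← hXP]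
      simp only [Matrix.mul_assoc]
    rw [e1, e2, ← Matrix.add_mul, ← Matrix.add_mul, ← Matrix.mul_add, ← Matrix.mul_add]
    have hX' : Xᵀ * K + K * X + K = 0 := hX
    rw [hX', Matrix.mul_zero, Matrix.zero_mul]
  have hSA : (P.valᵀ * K * P.val) * Matrix.fromBlocks N 0 0 A =
      (Matrix.fromBlocks N 0 0 A)ᵀ * (P.valᵀ * K * P.val) := by
    calc (P.valᵀ * K * P.val) * Matrix.fromBlocks N 0 0 A
        = P.valᵀ * K * ((X * X + X) * P.val) := by rw [hP, Matrix.mul_assoc]
      _ = P.valᵀ * (K * (X * X + X)) * P.val := by simp only [Matrix.mul_assoc]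
      _ = P.valᵀ * ((X * X + X)ᵀ * K) * P.val := by rw [affA_selfadj K X hX]
      _ = ((X * X + X) * P.val)ᵀ * K * P.val := by
          rw [Matrix.transpose_mul]
          simp only [Matrix.mul_assoc]
      _ = (Matrix.fromBlocks N 0 0 A)ᵀ * (P.valᵀ * K * P.val) := by
          rw [hP, Matrix.transpose_mul]
          simp only [Matrix.mul_assoc]
  obtain ⟨K11, Z, W, K22, hblk⟩ : ∃ K11 Z W K22, P.valᵀ * K * P.val =
      Matrix.fromBlocks K11 Z W K22 :=
    ⟨_, _, _, _, (Matrix.fromBlocks_toBlocks _).symm⟩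
  rw [hblk] at hT' hd' hu' hAff' hSA
  rw [Matrix.fromBlocks_transpose, Matrix.fromBlocks_multiply, Matrix.fromBlocks_multiply,
    Matrix.fromBlocks_inj] at hSA
  simp only [Matrix.transpose_zero, Matrix.zero_mul, Matrix.mul_zero, add_zero, zero_add]
    at hSA
  obtain ⟨_, s12, _, _⟩ := hSA
  rw [Matrix.fromBlocks_transpose, Matrix.fromBlocks_neg, Matrix.fromBlocks_inj] at hT'
  obtain ⟨t11, t12, t21, t22⟩ := hT'
  have hZ : Z = 0 := sylv_zero' Nᵀ A Z (isNilpotent_transpose hN) hA s12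
  have hW : W = 0 := by
    have e1 : Wᵀ = 0 := by rw [t12, hZ, neg_zero]
    have e2 := congrArg Matrix.transpose e1
    rwa [Matrix.transpose_transpose, Matrix.transpose_zero] at e2
  subst hZ
  subst hW
  rw [Matrix.fromBlocks_transpose, Matrix.fromBlocks_multiply, Matrix.fromBlocks_multiply,
    Matrix.fromBlocks_add, Matrix.fromBlocks_add, ← Matrix.fromBlocks_zero,
    Matrix.fromBlocks_inj] at hAff'
  simp only [Matrix.transpose_zero, Matrix.zero_mul, Matrix.mul_zero, add_zero, zero_add]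
    at hAff'
  obtain ⟨a11, _, _, a22⟩ := hAff'
  have hdet : IsUnit (K11.det * K22.det) := by
    have h1 := (Matrix.isUnit_iff_isUnit_det _).mp hu'
    rwa [Matrix.det_fromBlocks_zero₂₁] at h1
  refine ⟨P, K11, K22, X11, X22, ⟨t11, ?_, ?_⟩, ⟨t22, ?_, ?_⟩, hblk, hXP, a11, a22, ?_, ?_⟩
  · intro i
    have := hd' (Sum.inl i)
    rwa [Matrix.fromBlocks_apply₁₁] at this
  · exact (Matrix.isUnit_iff_isUnit_det _).mpr (isUnit_of_mul_isUnit_left hdet)
  · intro i
    have := hd' (Sum.inr i)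
    rwa [Matrix.fromBlocks_apply₂₂] at this
  · exact (Matrix.isUnit_iff_isUnit_det _).mpr (isUnit_of_mul_isUnit_right hdet)
  · rw [e11]
    exact hN
  · have h1 : X22 * (X22 + 1) = A := by
      rw [Matrix.mul_add, Matrix.mul_one]
      exact e22
    have h2 : IsUnit (X22.det * (X22 + 1).det) := by
      rw [← Matrix.det_mul, h1]
      exact (Matrix.isUnit_iff_isUnit_det _).mp hA
    exact (Matrix.isUnit_iff_isUnit_det _).mpr (isUnit_of_mul_isUnit_left h2)

end Cfsg.Agent.Lib.Helper76.SPU
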